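import Groth.Agent.S12073
import Mathlib.FieldTheory.IntermediateField.Adjoin.Basic
import Mathlib.FieldTheory.SeparableClosure
import Mathlib.Algebra.Category.Ring.FilteredColimits
import Mathlib.Algebra.Category.Ring.Colimits
import Mathlib.CategoryTheory.Limits.Types.Filtered

/-!
# Base change to an algebraic extension as a limit over finite subextensions
-/

set_option autoImplicit false
set_option linter.style.haveILetI false
set_option backward.isDefEq.respectTransparency.types false
set_option backward.isDefEq.respectTransparency false
set_option backward.defeqAttrib.useBackward true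

universe u

open CategoryTheory CategoryTheory.Limits AlgebraicGeometry Opposite

namespace Groth.L27.FEtField

variable (k K : Type u) [Field k] [Field K] [Algebra k K]

/-- The finite subextensions. -/
def FSub : Type u := {L : IntermediateField k K // FiniteDimensional k L}

instance : PartialOrder (FSub k K) := inferInstanceAs (PartialOrder (Subtype _))

instance : Nonempty (FSub k K) := ⟨⟨⊥, inferInstance⟩⟩

instance : IsDirected (FSub k K) (· ≤ ·) :=
  ⟨fun S T => by
    haveI := S.2
    haveI := T.2
    exact ⟨⟨S.1 ⊔ T.1, IntermediateField.finiteDimensional_sup S.1 T.1⟩, le_sup_left (a := S.1),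
      le_sup_right (a := S.1)⟩⟩

/-- The finite subextensions as a diagram. -/
def diagram : FSub k K ⥤ CommRingCat.{u} where
  obj S := CommRingCat.of S.1
  map {S T} h := CommRingCat.ofHom (IntermediateField.inclusion (show S.1 ≤ T.1 from h.le)).toRingHom
  map_id _ := rfl
  map_comp _ _ := rfl

/-- The extension as a cocone. -/
def cocone : Cocone (diagram k K) where
  pt := CommRingCat.of K
  ι :=
    { app := fun S => CommRingCat.ofHom (algebraMap S.1 K)
      naturality := fun _ _ _ => rfl }

variable [Algebra.IsAlgebraic k K]

/-- An algebraic extension is the union of its finite subextensions. -/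
noncomputable def isColimitCocone : IsColimit (cocone k K) := by
  haveI : PreservesColimitsOfShape (FSub k K) (forget CommRingCat.{u}) := inferInstance
  haveI : HasColimitsOfShape (FSub k K) CommRingCat.{u} := inferInstance
  haveI : ReflectsColimitsOfShape (FSub k K) (forget CommRingCat.{u}) :=
    reflectsColimitsOfShape_of_reflectsIsomorphisms
  refine isColimitOfReflects (forget CommRingCat.{u}) ?_
  refine Types.FilteredColimit.isColimitOf' _ _ (fun x => ?_) (fun S x y h => ?_)
  · let x' : K := x
    exact ⟨⟨IntermediateField.adjoin k {x'},
      IntermediateField.adjoin.finiteDimensional (Algebra.IsAlgebraic.isAlgebraic x').isIntegral⟩,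
      ⟨x', IntermediateField.mem_adjoin_simple_self k x'⟩, rfl⟩
  · exact ⟨S, 𝟙 S, by rw [show x = y from Subtype.ext h]⟩

variable {k K} {X : Scheme.{u}} (f : X ⟶ Spec (CommRingCat.of k))

/-- The structure morphism of a finite subextension. -/
noncomputable def sp (L : FSub k K) : Spec (CommRingCat.of L.1) ⟶ Spec (CommRingCat.of k) :=
  Spec.map (CommRingCat.ofHom (algebraMap k L.1))

omit [Algebra.IsAlgebraic k K] in
theorem map_sp {L M : FSub k K} (h : L ⟶ M) : Spec.map ((diagram k K).map h) ≫ sp L = sp M := by
  show Spec.map _ ≫ Spec.map _ = Spec.map _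
  rw [← Spec.map_comp]
  rfl

/-- The base changes to the finite subextensions. -/
noncomputable def bc : (FSub k K)ᵒᵖ ⥤ Scheme.{u} where
  obj L := pullback f (sp L.unop)
  map {L M} h := pullback.lift (pullback.fst _ _) (pullback.snd _ _ ≫ Spec.map ((diagram k K).map h.unop))
    (by rw [pullback.condition, Category.assoc, map_sp])
  map_id L := by
    apply pullback.hom_ext
    · simp
    · simp only [pullback.lift_snd, Category.id_comp, unop_id, CategoryTheory.Functor.map_id]
      erw [Spec.map_id, Category.comp_id]
  map_comp {L M N} h h' := by apply pullback.hom_ext <;> simp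

/-- The base change to the extension, as a cone. -/
noncomputable def bcCone : Cone (bc (K := K) f) where
  pt := pullback f (Spec.map (CommRingCat.ofHom (algebraMap k K)))
  π :=
    { app := fun L => pullback.lift (pullback.fst _ _)
        (pullback.snd _ _ ≫ Spec.map ((cocone k K).ι.app L.unop))
        (by
          rw [pullback.condition, Category.assoc]
          congr 1
          show Spec.map _ = Spec.map _ ≫ Spec.map _
          rw [← Spec.map_comp]
          rfl)
      naturality := fun L M h => by
        dsimp [bc]
        apply pullback.hom_ext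
        · simp
        · simp only [Category.id_comp, Category.assoc, pullback.lift_snd, pullback.lift_snd_assoc,
            ← Spec.map_comp, (cocone k K).w] }

/-- The base change to the extension is the limit. -/
noncomputable def isLimitBcCone : IsLimit (bcCone (K := K) f) := by
  haveI : PreservesLimitsOfSize.{u, u} Scheme.Spec.{u} := ΓSpec.adjunction.rightAdjoint_preservesLimits
  let hS : IsLimit (Scheme.Spec.mapCone (cocone k K).op) :=
    isLimitOfPreserves Scheme.Spec (isColimitCocone k K).op
  let L₀ : FSub k K := ⟨⊥, inferInstance⟩
  let sc : ∀ s : Cone (bc (K := K) f), Cone ((diagram k K).op ⋙ Scheme.Spec) := fun s =>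
    { pt := s.pt
      π :=
        { app := fun L => s.π.app L ≫ pullback.snd _ _
          naturality := fun L M h => by
            dsimp
            rw [Category.id_comp, ← s.w h, Category.assoc, Category.assoc]
            dsimp [bc]
            rw [pullback.lift_snd] } }
  let toX : ∀ s : Cone (bc (K := K) f), s.pt ⟶ X := fun s => s.π.app (op L₀) ≫ pullback.fst _ _
  have htoX : ∀ (s : Cone (bc (K := K) f)) (L : (FSub k K)ᵒᵖ), s.π.app L ≫ pullback.fst _ _ = toX s := by
    intro s L
    let h : L ⟶ op L₀ := (homOfLE (show L₀.1 ≤ L.unop.1 from bot_le) : L₀ ⟶ L.unop).op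
    show _ = s.π.app (op L₀) ≫ _
    rw [← s.w h, Category.assoc]
    dsimp [bc]
    rw [pullback.lift_fst]
  let toK : ∀ s : Cone (bc (K := K) f), s.pt ⟶ Spec (CommRingCat.of K) := fun s => hS.lift (sc s)
  have htoK : ∀ s L, toK s ≫ Spec.map ((cocone k K).ι.app L) = s.π.app (op L) ≫ pullback.snd _ _ :=
    fun s L => hS.fac (sc s) (op L)
  have hsp : Spec.map ((cocone k K).ι.app L₀) ≫ sp L₀ =
      Spec.map (CommRingCat.ofHom (algebraMap k K)) := by
    show Spec.map _ ≫ Spec.map _ = Spec.map _
    rw [← Spec.map_comp]
    rfl
  refine
    { lift := fun s => pullback.lift (toX s) (toK s) ?_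
      fac := fun s L => ?_
      uniq := fun s m hm => ?_ }
  · rw [← hsp, ← Category.assoc, htoK, Category.assoc, Category.assoc]
    dsimp [bc]
    rw [pullback.condition]
  · dsimp [bcCone]
    apply pullback.hom_ext
    · rw [Category.assoc, pullback.lift_fst, pullback.lift_fst, htoX]
    · rw [Category.assoc, pullback.lift_snd, pullback.lift_snd_assoc]
      exact htoK s L.unop
  · apply pullback.hom_ext
    · rw [pullback.lift_fst, ← htoX s (op L₀), ← hm (op L₀), Category.assoc]
      dsimp [bcCone]
      rw [pullback.lift_fst]
    · rw [pullback.lift_snd]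
      refine hS.uniq (sc s) _ fun L => ?_
      show (m ≫ _) ≫ Spec.map ((cocone k K).ι.app L.unop) = s.π.app L ≫ _
      rw [← hm L, Category.assoc, Category.assoc]
      dsimp [bcCone]
      rw [pullback.lift_snd]

instance isAffineHom_bc_map {L M : (FSub k K)ᵒᵖ} (h : L ⟶ M) : IsAffineHom ((bc (K := K) f).map h) := by
  haveI : ∀ S : FSub k K, IsAffineHom (pullback.fst f (sp S)) := fun S => by
    exact MorphismProperty.pullback_fst (P := @IsAffineHom) f (sp S) (isAffineHom_of_isAffine _)
  haveI : IsAffineHom (((bc (K := K) f).map h) ≫ pullback.fst f (sp M.unop)) := by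
    dsimp [bc]
    rw [pullback.lift_fst]
    infer_instance
  exact IsAffineHom.of_comp _ (pullback.fst f (sp M.unop))

end Groth.L27.FEtField
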