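import Groth.Agent.L27.FEtField.SepClosure
import Groth.Agent.L27.SGA1.FieldFibres

/-!
# Sections over the algebraic closure descend to finite separable stages; clopens of base changes
-/

set_option autoImplicit false
set_option linter.style.haveILetI false
set_option backward.isDefEq.respectTransparency.types false

universe u

open CategoryTheory CategoryTheory.Limits AlgebraicGeometry

namespace Groth.L27.FEtField

variable {k : Type u} [Field k] {X : Scheme.{u}} (f : X ⟶ Spec (CommRingCat.of k))

/-- A partial section over the algebraic closure of an etale morphism comes from a finite separable stage. -/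
theorem exists_stage [CompactSpace X] [QuasiSeparatedSpace X] {U : Scheme.{u}} (π : U ⟶ X) [AlgebraicGeometry.Etale π]
    [IsFinite π] (s : pullback f (Spec.map (CommRingCat.ofHom (algebraMap k (AlgebraicClosure k)))) ⟶ U)
    (hs : s ≫ π = pullback.fst _ _) :
    ∃ (L : FSub k ↥(Ks k)) (g : pullback f (sp L) ⟶ U), g ≫ π = pullback.fst _ _ ∧
      toKs f ≫ (bcCone (K := ↥(Ks k)) f).π.app (Opposite.op L) ≫ g = s := by
  let K := Ks k
  let sK := Spec.map (CommRingCat.ofHom (algebraMap k ↥K))
  obtain ⟨-, -, -, hrs, hinj, -⟩ := toKs_props f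
  let r := toKs f
  haveI : UniversallyInjective r := hinj
  let q : pullback π (pullback.fst f sK) ⟶ pullback f sK := pullback.snd _ _
  haveI : AlgebraicGeometry.Etale q :=
    MorphismProperty.pullback_snd (P := @AlgebraicGeometry.Etale) π _ inferInstance
  let a₀ : pullback f _ ⟶ pullback π (pullback.fst f sK) := pullback.lift s r (by rw [hs, toKs_fst])
  obtain ⟨σ, ⟨hσ1, hσ2⟩, -⟩ := Groth.L27.TopInv.existsUnique_hom_of_univInjective r hrs (𝟙 (pullback f sK)) q
    (pullback.snd _ _ ≫ a₀) (by
      rw [Category.assoc, pullback.lift_snd, Category.comp_id]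
      exact pullback.condition.symm.trans (Category.comp_id _))
  have hσπ : (σ ≫ pullback.fst _ _) ≫ π = pullback.fst f sK := by
    rw [Category.assoc, pullback.condition, ← Category.assoc, hσ1, Category.id_comp]
  have hσr : r ≫ σ ≫ pullback.fst _ _ = s := by
    let j : pullback f (Spec.map (CommRingCat.ofHom (algebraMap k (AlgebraicClosure k)))) ⟶
        pullback (𝟙 (pullback f sK)) r := pullback.lift r (𝟙 _) (by simp)
    have hj1 : j ≫ pullback.fst (𝟙 (pullback f sK)) r = r := pullback.lift_fst _ _ _
    have hj2 : j ≫ pullback.snd (𝟙 (pullback f sK)) r = 𝟙 _ := pullback.lift_snd _ _ _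
    have h1 := congrArg (fun m => j ≫ m ≫ pullback.fst π (pullback.fst f sK)) hσ2
    simp only [Category.assoc] at h1
    rw [reassoc_of% hj1, reassoc_of% hj2] at h1
    exact h1.symm.trans (pullback.lift_fst _ _ _)
  haveI : ∀ L, CompactSpace ((bc (K := ↥K) f).obj L) := compactSpace_bc f
  haveI : ∀ L, QuasiSeparatedSpace ((bc (K := ↥K) f).obj L) := quasiSeparatedSpace_bc f
  let t : bc (K := ↥K) f ⟶ (Functor.const _).obj X :=
    { app := fun L => pullback.fst _ _
      naturality := fun L M h => (pullback.lift_fst _ _ _).trans (Category.comp_id _).symm }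
  obtain ⟨L, g, hg, hgπ⟩ := Scheme.exists_π_app_comp_eq_of_locallyOfFinitePresentation _ t π
    (bcCone (K := ↥K) f) (isLimitBcCone f) (σ ≫ pullback.fst _ _) (by
      ext L : 2
      show pullback.lift _ _ _ ≫ pullback.fst _ _ = (σ ≫ _) ≫ π
      rw [pullback.lift_fst]; exact hσπ.symm)
  exact ⟨L.unop, g, hgπ, (congrArg (r ≫ ·) hg).trans hσr⟩

variable [ConnectedSpace ↥(pullback f (Spec.map (CommRingCat.ofHom (algebraMap k (AlgebraicClosure k)))))]

/-- A clopen of a base change of a geometrically connected scheme comes from the base. -/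
theorem exists_clopen_base [QuasiCompact f] {W : Scheme.{u}} (w : W ⟶ Spec (CommRingCat.of k))
    (C : Set ↥(pullback w f)) (hC : IsClopen C) :
    ∃ C₀ : Set W, IsClopen C₀ ∧ pullback.fst w f ⁻¹' C₀ = C := by
  let p := pullback.fst w f
  haveI : Flat f := Groth.L27.SGA1Conn.flat_toField f
  haveI : Surjective f := ⟨fun s => by
    obtain ⟨x⟩ : Nonempty ↥(pullback f (Spec.map (CommRingCat.ofHom (algebraMap k (AlgebraicClosure k))))) :=
      inferInstance
    exact ⟨(pullback.fst f _).base x, Subsingleton.elim (α := Spec (CommRingCat.of k)) _ _⟩⟩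
  haveI : Flat p := MorphismProperty.pullback_fst (P := @Flat) w f inferInstance
  haveI : QuasiCompact p := MorphismProperty.pullback_fst (P := @QuasiCompact) w f inferInstance
  haveI : Surjective p := MorphismProperty.pullback_fst (P := @Surjective) w f inferInstance
  have hquot : Topology.IsQuotientMap p := Flat.isQuotientMap_of_surjective p
  have hsat : ∀ a b, p a = p b → a ∈ C → b ∈ C := by
    intro a b hab ha
    let Ω := AlgebraicClosure (W.residueField (p a))
    let ξ : Spec (CommRingCat.of Ω) ⟶ W :=
      Spec.map (CommRingCat.ofHom (algebraMap (W.residueField (p a)) Ω)) ≫ W.fromSpecResidueField (p a)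
    have hξ : ξ default = p a := by
      rw [Scheme.Hom.comp_apply]
      exact Scheme.fromSpecResidueField_apply _ _
    haveI : ConnectedSpace ↥(pullback f (ξ ≫ w)) := Groth.L27.SGA1Conn.connectedSpace_of_algClosure f Ω _
    let φ : pullback f (ξ ≫ w) ⟶ pullback w f :=
      pullback.lift (pullback.snd _ _ ≫ ξ) (pullback.fst _ _) (by simp only [Category.assoc, pullback.condition])
    have hsq : IsPullback φ (pullback.snd f (ξ ≫ w)) p ξ :=
      IsPullback.of_right (by rw [show φ ≫ pullback.snd w f = pullback.fst _ _ from pullback.lift_snd _ _ _]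
                              exact IsPullback.of_hasPullback f (ξ ≫ w))
        (pullback.lift_fst _ _ _) (IsPullback.of_hasPullback w f).flip
    have hmem : ∀ c, p c = p a → c ∈ Set.range φ := fun c hc => by
      obtain ⟨z, hz, -⟩ := Scheme.Pullback.exists_preimage_pullback (f := p) (g := ξ) c default
        (hc.trans hξ.symm)
      refine ⟨hsq.isoPullback.inv z, ?_⟩
      rw [← Scheme.Hom.comp_apply, hsq.isoPullback_inv_fst]; exact hz
    obtain ⟨za, hza⟩ := hmem a rfl
    obtain ⟨zb, hzb⟩ := hmem b hab.symm
    have huniv : φ ⁻¹' C = Set.univ :=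
      IsClopen.eq_univ (hC.preimage φ.continuous) ⟨za, by rw [Set.mem_preimage, hza]; exact ha⟩
    rw [← hzb]
    exact huniv.ge (Set.mem_univ zb)
  refine ⟨p '' C, ?_, ?_⟩
  · have hpre : p ⁻¹' (p '' C) = C := Set.Subset.antisymm
      (fun b ⟨a, ha, hab⟩ => hsat a b hab ha) (Set.subset_preimage_image p C)
    exact ⟨hquot.isClosed_preimage.mp (by rw [hpre]; exact hC.1), hquot.isOpen_preimage.mp (by rw [hpre]; exact hC.2)⟩
  · exact Set.Subset.antisymm (fun b ⟨a, ha, hab⟩ => hsat a b hab ha) (Set.subset_preimage_image p C)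

end Groth.L27.FEtField
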