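import Groth.Agent.L27.FEtField.Limit
import Groth.Agent.L27.TopInv.FEtUnivHomeo
import Groth.Agent.L05.CurveNorm.Scheme
import Mathlib.FieldTheory.PurelyInseparable.Basic
import Mathlib.RingTheory.Etale.Field

/-!
# Base changes to the separable and to the algebraic closure
-/

set_option autoImplicit false
set_option linter.style.haveILetI false
set_option backward.isDefEq.respectTransparency.types false

universe u

open CategoryTheory CategoryTheory.Limits AlgebraicGeometry

namespace Groth.L27.FEtField

variable {k : Type u} [Field k] {X : Scheme.{u}} (f : X ⟶ Spec (CommRingCat.of k))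

variable (k) in
/-- The separable closure inside the algebraic closure. -/
noncomputable abbrev Ks : IntermediateField k (AlgebraicClosure k) := separableClosure k (AlgebraicClosure k)

/-- From the base change to the algebraic closure to the one to the separable closure. -/
noncomputable def toKs : pullback f (Spec.map (CommRingCat.ofHom (algebraMap k (AlgebraicClosure k)))) ⟶
    pullback f (Spec.map (CommRingCat.ofHom (algebraMap k ↥(Ks k)))) :=
  pullback.lift (pullback.fst _ _) (pullback.snd _ _ ≫ Groth.L05.CurveNorm.ext ↥(Ks k) (AlgebraicClosure k))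
    (by
      rw [pullback.condition, Category.assoc, Groth.L05.CurveNorm.ext, ← Spec.map_comp]
      rfl)

theorem toKs_fst : toKs f ≫ pullback.fst _ _ = pullback.fst _ _ := pullback.lift_fst _ _ _

theorem toKs_props : FlatMor.IsUnivHomeo (toKs f) ∧ Flat (toKs f) ∧ QuasiCompact (toKs f) ∧
    SGA1.UnivSubmersive (toKs f) ∧ UniversallyInjective (toKs f) ∧ Surjective (toKs f) := by
  let Ω := AlgebraicClosure k
  let q : Spec (CommRingCat.of Ω) ⟶ Spec (CommRingCat.of ↥(Ks k)) := Groth.L05.CurveNorm.ext ↥(Ks k) Ω
  haveI : IsPurelyInseparable ↥(Ks k) Ω := inferInstance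
  haveI : Algebra.IsIntegral ↥(Ks k) Ω := inferInstance
  haveI : UniversallyInjective q := Groth.L05.CurveNorm.universallyInjective_ext ↥(Ks k) Ω
  haveI : IsIntegralHom q := IsIntegralHom.SpecMap_iff.mpr (algebraMap_isIntegral_iff.mpr inferInstance)
  haveI : Surjective q := ⟨fun x => ⟨IsLocalRing.closedPoint Ω, by
    haveI : Subsingleton ↥(Spec (CommRingCat.of ↥(Ks k))) := inferInstanceAs (Subsingleton (PrimeSpectrum ↥(Ks k)))
    exact Subsingleton.elim _ _⟩⟩
  haveI : Flat q := HasRingHomProperty.Spec_iff.mpr (RingHom.flat_algebraMap_iff.mpr inferInstance)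
  have hq : q ≫ Spec.map (CommRingCat.ofHom (algebraMap k ↥(Ks k))) =
      Spec.map (CommRingCat.ofHom (algebraMap k Ω)) := by
    show Spec.map _ ≫ Spec.map _ = _
    rw [← Spec.map_comp]
    rfl
  have hr : IsPullback (toKs f) (pullback.snd _ _) (pullback.snd _ _) q :=
    IsPullback.of_right (by rw [toKs_fst, hq]; exact IsPullback.of_hasPullback _ _)
      (pullback.lift_snd _ _ _) (IsPullback.of_hasPullback f _)
  haveI : UniversallyInjective (toKs f) := MorphismProperty.of_isPullback hr.flip inferInstance
  haveI : IsIntegralHom (toKs f) := MorphismProperty.of_isPullback hr.flip inferInstance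
  haveI : Surjective (toKs f) := MorphismProperty.of_isPullback hr.flip inferInstance
  haveI : Flat (toKs f) := MorphismProperty.of_isPullback hr.flip inferInstance
  exact ⟨(Groth.L20.isUnivHomeo_iff _).mpr ⟨inferInstance, inferInstance, inferInstance⟩, inferInstance,
    inferInstance, Groth.L27.TopInv.univSubmersive_of_fpqc _, inferInstance, inferInstance⟩

variable {K : Type u} [Field K] [Algebra k K]

theorem isAffineHom_sp (L : FSub k K) : IsAffineHom (sp L) := isAffineHom_of_isAffine _

theorem compactSpace_bc [CompactSpace X] (L : (FSub k K)ᵒᵖ) : CompactSpace ((bc (K := K) f).obj L) := by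
  haveI := isAffineHom_sp (k := k) (K := K) L.unop
  haveI : QuasiCompact (pullback.fst f (sp L.unop)) :=
    MorphismProperty.pullback_fst (P := @QuasiCompact) f _ inferInstance
  have h' : CompactSpace ↥(pullback f (sp L.unop)) :=
    QuasiCompact.compactSpace_of_compactSpace (pullback.fst f (sp L.unop))
  exact h'

theorem quasiSeparatedSpace_bc [QuasiSeparatedSpace X] (L : (FSub k K)ᵒᵖ) :
    QuasiSeparatedSpace ((bc (K := K) f).obj L) := by
  haveI := isAffineHom_sp (k := k) (K := K) L.unop
  haveI : QuasiSeparated (pullback.fst f (sp L.unop)) :=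
    MorphismProperty.pullback_fst (P := @QuasiSeparated) f _ inferInstance
  have h' : QuasiSeparatedSpace ↥(pullback f (sp L.unop)) :=
    quasiSeparatedSpace_of_quasiSeparated (pullback.fst f (sp L.unop))
  exact h'

theorem etale_sp [Algebra.IsSeparable k K] (L : FSub k K) : IsFinite (sp L) ∧ AlgebraicGeometry.Etale (sp L) := by
  haveI : FiniteDimensional k ↥L.1 := L.2
  haveI : Algebra.IsSeparable k ↥L.1 := Algebra.isSeparable_tower_bot_of_isSeparable k ↥L.1 K
  haveI : Algebra.FormallyEtale k ↥L.1 := Algebra.FormallyEtale.of_isSeparable k _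
  haveI : Algebra.Etale k ↥L.1 :=
    ⟨inferInstance, (Algebra.FinitePresentation.of_finiteType (R := k)).mp inferInstance⟩
  unfold sp
  exact ⟨(IsFinite.SpecMap_iff _).mpr (RingHom.finite_algebraMap.mpr inferInstance),
    HasRingHomProperty.Spec_iff.mpr (RingHom.etale_algebraMap.mpr inferInstance)⟩

end Groth.L27.FEtField
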